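import Mathlib

/-!
Finite point sets with the Cayley–Bacharach property in degree `n`.
-/

set_option autoImplicit false

universe u

open MvPolynomial Module

namespace Groth.Agent.CBPts

variable {k : Type u} [Field k] {σ : Type} [Fintype σ]

/-- Cayley–Bacharach in degree `n`. -/
def CB (Z : Finset (Projectivization k (σ → k))) (n : ℕ) : Prop :=
  ∀ z ∈ Z, ∀ p : MvPolynomial σ k, p.IsHomogeneous n → (∀ z' ∈ Z, z' ≠ z → eval z'.rep p = 0) → eval z.rep p = 0

/-- the linear form of a functional -/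
noncomputable def formOf [DecidableEq σ] (φ : Dual k (σ → k)) : MvPolynomial σ k :=
  ∑ i, C (φ (Pi.single i 1)) * X i

lemma isHomogeneous_formOf [DecidableEq σ] (φ : Dual k (σ → k)) : (formOf φ).IsHomogeneous 1 :=
  IsHomogeneous.sum _ _ 1 fun i _ => (isHomogeneous_X k i).C_mul _

lemma eval_formOf [DecidableEq σ] (φ : Dual k (σ → k)) (v : σ → k) : eval v (formOf φ) = φ v := by
  conv_rhs => rw [← Finset.univ_sum_single v, map_sum]
  simp only [formOf, map_sum, map_mul, eval_C, eval_X]
  refine Finset.sum_congr rfl fun i _ => ?_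
  rw [show Pi.single i (v i) = v i • (Pi.single i (1 : k) : σ → k) by
    rw [← Pi.single_smul, smul_eq_mul, mul_one], map_smul, smul_eq_mul, mul_comm]

variable [Infinite k]

/-- a functional vanishing on a subspace and nowhere zero on finitely many vectors outside it -/
lemma exists_avoid {V : Type u} [AddCommGroup V] [Module k V] (W : Submodule k V) {ι : Type} [Finite ι]
    (v : ι → V) (hv : ∀ i, v i ∉ W) : ∃ φ : Dual k V, (∀ w ∈ W, φ w = 0) ∧ ∀ i, φ (v i) ≠ 0 := by
  obtain ⟨ψ, hψ⟩ := Module.exists_dual_forall_apply_ne_zero (K := k) (fun i => W.mkQ (v i))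
    fun i h => hv i ((Submodule.Quotient.mk_eq_zero W).1 h)
  exact ⟨ψ ∘ₗ W.mkQ, fun w hw => by simp [(Submodule.Quotient.mk_eq_zero W).2 hw], hψ⟩

omit [Fintype σ] [Infinite k] in
lemma rep_mem_iff {z : Projectivization k (σ → k)} {W : Submodule k (σ → k)} : z.rep ∈ W ↔ z.submodule ≤ W := by
  rw [z.submodule_eq, Submodule.span_singleton_le_iff_mem]

omit [Fintype σ] [Infinite k] in
lemma rep_notMem_submodule {z z' : Projectivization k (σ → k)} (h : z ≠ z') : z.rep ∉ z'.submodule := by
  intro hm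
  rw [z'.submodule_eq, Submodule.mem_span_singleton] at hm
  obtain ⟨a, ha⟩ := hm
  have ha0 : a ≠ 0 := by
    rintro rfl
    exact z.rep_nonzero (by rw [← ha, zero_smul])
  refine h ?_
  rw [← z.mk_rep, ← z'.mk_rep, Projectivization.mk_eq_mk_iff]
  exact ⟨Units.mk0 a ha0, ha⟩

lemma card_ge {Z : Finset (Projectivization k (σ → k))} {n : ℕ} (hCB : CB Z n) (hZ : Z.Nonempty) :
    n + 2 ≤ Z.card := by
  classical
  by_contra hlt
  obtain ⟨z, hz⟩ := hZ
  have hc : (Z.erase z).card ≤ n := by
    rw [Finset.card_erase_of_mem hz]; omega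
  have hex : ∀ z' : Z.erase z, ∃ φ : Dual k (σ → k), φ z'.1.rep = 0 ∧ φ z.rep ≠ 0 := by
    intro z'
    obtain ⟨φ, h1, h2⟩ := exists_avoid z'.1.submodule (fun _ : Unit => z.rep)
      fun _ => rep_notMem_submodule (Finset.ne_of_mem_erase z'.2).symm
    exact ⟨φ, h1 _ (rep_mem_iff.2 le_rfl), h2 ()⟩
  choose φ hφ0 hφ1 using hex
  obtain ⟨ψ, -, hψ⟩ := exists_avoid (⊥ : Submodule k (σ → k)) (fun _ : Unit => z.rep)
    fun _ h => z.rep_nonzero ((Submodule.mem_bot k).1 h)
  have hp : ((∏ z', formOf (φ z')) * formOf ψ ^ (n - (Z.erase z).card)).IsHomogeneous n := by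
    have h1 : (∏ z', formOf (φ z')).IsHomogeneous (Z.erase z).card := by
      have := IsHomogeneous.prod Finset.univ (fun z' : Z.erase z => formOf (φ z')) (fun _ => 1)
        fun z' _ => isHomogeneous_formOf (φ z')
      simpa using this
    have h2 := h1.mul ((isHomogeneous_formOf ψ).pow (n - (Z.erase z).card))
    rwa [one_mul, Nat.add_sub_cancel' hc] at h2
  have h0 := hCB z hz _ hp fun z' hz' hne => by
    rw [map_mul, map_prod, Finset.prod_eq_zero (Finset.mem_univ ⟨z', Finset.mem_erase.2 ⟨hne, hz'⟩⟩)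
      (by rw [eval_formOf]; exact hφ0 _), zero_mul]
  rw [map_mul, map_prod, map_pow] at h0
  simp only [eval_formOf] at h0
  exact mul_ne_zero (Finset.prod_ne_zero_iff.2 fun z' _ => hφ1 z') (pow_ne_zero _ (hψ ())) h0

omit [Infinite k] in
lemma residual [DecidableEq σ] {Z : Finset (Projectivization k (σ → k))} {n : ℕ} (hCB : CB Z (n + 1))
    (φ : Dual k (σ → k)) [DecidablePred fun z : Projectivization k (σ → k) => φ z.rep ≠ 0] :
    CB (Z.filter fun z => φ z.rep ≠ 0) n := by
  intro z hz p hp h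
  rw [Finset.mem_filter] at hz
  have h0 := hCB z hz.1 (p * formOf φ) (hp.mul (isHomogeneous_formOf φ)) fun z' hz' hne => by
    rw [map_mul, eval_formOf]
    by_cases hφ : φ z'.rep = 0
    · rw [hφ, mul_zero]
    · rw [h z' (Finset.mem_filter.2 ⟨hz', hφ⟩) hne, zero_mul]
  rw [map_mul, eval_formOf, mul_eq_zero] at h0
  exact h0.resolve_right hz.2

lemma collinear {n : ℕ} {Z : Finset (Projectivization k (σ → k))} (hn : 1 ≤ n) (hCB : CB Z n)
    (hZ : Z.Nonempty) (hcard : Z.card ≤ 2 * n + 1) :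
    ∃ W : Submodule k (σ → k), finrank k ↥W = 2 ∧ ∀ z ∈ Z, z.submodule ≤ W := by
  classical
  induction n using Nat.strong_induction_on generalizing Z with
  | _ n ih =>
  obtain ⟨m, rfl⟩ : ∃ m, n = m + 1 := ⟨n - 1, by omega⟩
  have h3 := card_ge hCB hZ
  have htwo : 1 < Z.card := by omega
  obtain ⟨a, ha, b, hb, hab⟩ := Finset.one_lt_card.1 htwo
  let L := fun q : Projectivization k (σ → k) × Projectivization k (σ → k) =>
    Submodule.span k (Set.range ![q.1.rep, q.2.rep])
  have hL : ∀ q : Projectivization k (σ → k) × Projectivization k (σ → k), q.1 ≠ q.2 →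
      finrank k ↥(L q) = 2 := fun q hq => by
    rw [finrank_span_eq_card (R := k)]
    · simp
    · exact (Projectivization.linearIndependent_pair_iff_ne).2 hq
  let P := (Z ×ˢ Z).filter fun q => q.1 ≠ q.2
  obtain ⟨q, hq, hmax⟩ := P.exists_max_image (fun q => (Z.filter fun z => z.rep ∈ L q).card)
    ⟨(a, b), by simp [P, ha, hb, hab]⟩
  simp only [P, Finset.mem_filter, Finset.mem_product] at hq hmax
  refine ⟨L q, hL q hq.2, fun z hz => rep_mem_iff.1 ?_⟩
  by_contra hz0
  -- a functional cutting exactly the maximal line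
  obtain ⟨φ, hφ0, hφ1⟩ := exists_avoid (L q) (ι := Fin (Z.filter fun w => w.rep ∉ L q).card)
    (fun i => ((Z.filter fun w => w.rep ∉ L q).equivFin.symm i).1.rep)
    fun i => (Finset.mem_filter.1 ((Z.filter fun w => w.rep ∉ L q).equivFin.symm i).2).2
  have hφ2 : ∀ w ∈ Z, φ w.rep ≠ 0 ↔ w.rep ∉ L q := by
    refine fun w hw => ⟨fun h h' => h (hφ0 _ h'), fun h => ?_⟩
    have := hφ1 ((Z.filter fun w => w.rep ∉ L q).equivFin ⟨w, Finset.mem_filter.2 ⟨hw, h⟩⟩)
    rwa [Equiv.symm_apply_apply] at this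
  have hres := residual hCB φ
  rw [Finset.filter_congr hφ2] at hres
  have hne : (Z.filter fun w => w.rep ∉ L q).Nonempty := ⟨z, Finset.mem_filter.2 ⟨hz, hz0⟩⟩
  have hge := card_ge hres hne
  have hsum := Finset.card_filter_add_card_filter_not (s := Z) (fun w => w.rep ∈ L q)
  have hin : 2 ≤ (Z.filter fun w => w.rep ∈ L q).card := by
    have hsub : ({q.1, q.2} : Finset (Projectivization k (σ → k))) ⊆ Z.filter fun w => w.rep ∈ L q := by
      intro w hw
      simp only [Finset.mem_insert, Finset.mem_singleton] at hw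
      rcases hw with rfl | rfl
      · exact Finset.mem_filter.2 ⟨hq.1.1, Submodule.subset_span ⟨0, rfl⟩⟩
      · exact Finset.mem_filter.2 ⟨hq.1.2, Submodule.subset_span ⟨1, rfl⟩⟩
    exact (Finset.card_pair hq.2).symm.le.trans (Finset.card_le_card hsub)
  rcases Nat.eq_zero_or_pos m with rfl | hm
  · omega
  obtain ⟨W', hW', hsub⟩ := ih m (by omega) hm hres hne (by omega)
  obtain ⟨c, hc, d, hd, hcd⟩ := Finset.one_lt_card.1 (show 1 < (Z.filter fun w => w.rep ∉ L q).card by omega)
  have hLW : L (c, d) = W' := by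
    refine Submodule.eq_of_le_of_finrank_eq (Submodule.span_le.2 ?_) ((hL (c, d) hcd).trans hW'.symm)
    rintro _ ⟨i, rfl⟩
    fin_cases i
    · exact rep_mem_iff.2 (hsub c hc)
    · exact rep_mem_iff.2 (hsub d hd)
  have hle := hmax (c, d) ⟨⟨(Finset.mem_filter.1 hc).1, (Finset.mem_filter.1 hd).1⟩, hcd⟩
  have h4 : (Z.filter fun w => w.rep ∉ L q).card ≤ (Z.filter fun w => w.rep ∈ L (c, d)).card :=
    Finset.card_le_card fun w hw => Finset.mem_filter.2 ⟨(Finset.mem_filter.1 hw).1, by
      rw [hLW]; exact rep_mem_iff.2 (hsub w hw)⟩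
  omega

/-- The evaluation of forms of degree `m` on a point set. -/
noncomputable abbrev evalMap (Z : Finset (Projectivization k (σ → k))) (m : ℕ) :
    ↥(homogeneousSubmodule σ k m) →ₗ[k] (↥Z → k) :=
  (LinearMap.pi fun z : ↥Z => (MvPolynomial.aeval (R := k) z.1.rep).toLinearMap) ∘ₗ
    (homogeneousSubmodule σ k m).subtype

lemma rank_add_le {Z : Finset (Projectivization k (σ → k))} {n m : ℕ} (hCB : CB Z n) (hm : m ≤ n) :
    (∃ s : MvPolynomial σ k, s.IsHomogeneous (n - m) ∧ s ≠ 0 ∧ ∀ z ∈ Z, eval z.rep s = 0) ∨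
      finrank k (LinearMap.range (evalMap Z m)) + finrank k ↥(homogeneousSubmodule σ k (n - m)) ≤ Z.card := by
  classical
  by_cases hs : ∃ s : MvPolynomial σ k, s.IsHomogeneous (n - m) ∧ s ≠ 0 ∧ ∀ z ∈ Z, eval z.rep s = 0
  · exact Or.inl hs
  refine Or.inr ?_
  have hval : ∀ (j : ℕ) (p : homogeneousSubmodule σ k j) (z : Z), evalMap Z j p z = eval z.1.rep (p : MvPolynomial σ k) :=
    fun j p z => by simp [evalMap, aeval_eq_eval]
  have hinj : Function.Injective (evalMap Z (n - m)) := by
    rw [injective_iff_map_eq_zero]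
    intro p hp
    by_contra hp0
    refine hs ⟨p, p.2, fun h => hp0 (Subtype.ext h), fun z hz => ?_⟩
    rw [← hval (n - m) p ⟨z, hz⟩, hp]; rfl
  -- a relation of full support among the degree `n` evaluations
  let A : Submodule k (Dual k (↥Z → k)) := (LinearMap.range (evalMap Z n)).dualAnnihilator
  have hne : ∀ z : Z, ∃ x ∈ A, (Dual.eval k (↥Z → k) (Pi.single z 1)) x ≠ 0 := by
    intro z
    have hnot : (Pi.single z 1 : ↥Z → k) ∉ LinearMap.range (evalMap Z n) := by
      rintro ⟨p, hp⟩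
      have h1 := hCB z.1 z.2 p p.2 fun z' hz' hne => by
        rw [← hval n p ⟨z', hz'⟩, hp, Pi.single_eq_of_ne]
        exact fun e => hne (congrArg Subtype.val e)
      rw [← hval n p z, hp, Pi.single_eq_same] at h1
      exact one_ne_zero h1
    obtain ⟨f, hf1, hf2⟩ := Submodule.exists_dual_map_eq_bot_of_notMem hnot inferInstance
    have hfA : f ∈ A := by
      rw [Submodule.mem_dualAnnihilator]
      intro w hw
      have : f w ∈ (LinearMap.range (evalMap Z n)).map f := Submodule.mem_map_of_mem hw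
      rwa [hf2, Submodule.mem_bot] at this
    exact ⟨f, hfA, hf1⟩
  obtain ⟨f, hfA, hf⟩ := Module.Dual.exists_forall_mem_ne_zero_of_forall_exists A
    (fun z : Z => Dual.eval k (↥Z → k) (Pi.single z 1)) hne
  let B : (↥Z → k) →ₗ[k] Dual k (↥Z → k) := (LinearMap.mul k (↥Z → k)).compr₂ f
  have hB : Function.Injective B := by
    rw [injective_iff_map_eq_zero]
    intro u hu
    funext z
    have h1 : f (u * Pi.single z 1) = 0 := LinearMap.congr_fun hu (Pi.single z 1)
    have h2 : u * Pi.single z 1 = u z • (Pi.single z 1 : ↥Z → k) := by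
      funext w
      by_cases h : w = z
      · subst h; simp
      · simp [Pi.single_eq_of_ne h]
    rw [h2, map_smul, smul_eq_mul, mul_eq_zero] at h1
    exact h1.resolve_right (hf z)
  have hmap : (LinearMap.range (evalMap Z m)).map B ≤ (LinearMap.range (evalMap Z (n - m))).dualAnnihilator := by
    rintro _ ⟨_, ⟨p, rfl⟩, rfl⟩
    rw [Submodule.mem_dualAnnihilator]
    rintro _ ⟨r, rfl⟩
    have hhom : ((p : MvPolynomial σ k) * r).IsHomogeneous n := by
      have := IsHomogeneous.mul p.2 r.2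
      rwa [Nat.add_sub_cancel' hm] at this
    have hfn := (Submodule.mem_dualAnnihilator _).1 hfA _ ⟨⟨_, hhom⟩, rfl⟩
    refine Eq.trans (congrArg f (funext fun z => ?_)) hfn
    simp [hval]
  have h1 := Submodule.finrank_mono hmap
  rw [← LinearEquiv.finrank_eq (Submodule.equivMapOfInjective B hB _)] at h1
  have h2 := Subspace.finrank_add_finrank_dualAnnihilator_eq (LinearMap.range (evalMap Z (n - m)))
  rw [LinearMap.finrank_range_of_inj hinj, Module.finrank_pi, Fintype.card_coe] at h2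
  omega

end Groth.Agent.CBPts
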