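import Groth.Agent.CBPts.Basic

/-!
Finite sets of space points with the Cayley–Bacharach property: coplanar or on two skew lines.
-/

set_option autoImplicit false

universe u

open MvPolynomial Module

namespace Groth.Agent.CBPts

variable {k : Type u} [Field k] [Infinite k]

/-- the points of `Z` outside a subspace -/
noncomputable def off {σ : Type} (Z : Finset (Projectivization k (σ → k))) (W : Submodule k (σ → k)) :
    Finset (Projectivization k (σ → k)) := by
  classical exact Z.filter fun w => w.rep ∉ W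

/-- the points of `Z` in a subspace -/
noncomputable def on {σ : Type} (Z : Finset (Projectivization k (σ → k))) (W : Submodule k (σ → k)) :
    Finset (Projectivization k (σ → k)) := by
  classical exact Z.filter fun w => w.rep ∈ W

omit [Infinite k] in
lemma mem_off {σ : Type} {Z : Finset (Projectivization k (σ → k))} {W : Submodule k (σ → k)}
    {w : Projectivization k (σ → k)} : w ∈ off Z W ↔ w ∈ Z ∧ w.rep ∉ W := by
  classical simp [off]

omit [Infinite k] in
lemma mem_on {σ : Type} {Z : Finset (Projectivization k (σ → k))} {W : Submodule k (σ → k)}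
    {w : Projectivization k (σ → k)} : w ∈ on Z W ↔ w ∈ Z ∧ w.rep ∈ W := by
  classical simp [on]

omit [Infinite k] in
lemma card_on_off {σ : Type} (Z : Finset (Projectivization k (σ → k))) (W : Submodule k (σ → k)) :
    (on Z W).card + (off Z W).card = Z.card := by
  classical
  simp only [on, off]
  exact Finset.card_filter_add_card_filter_not _

lemma residual_off {σ : Type} [Fintype σ] {Z : Finset (Projectivization k (σ → k))} {n : ℕ}
    (hCB : CB Z (n + 1)) (W : Submodule k (σ → k)) : CB (off Z W) n := by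
  classical
  obtain ⟨φ, hφ0, hφ1⟩ := exists_avoid W (ι := Fin (off Z W).card)
    (fun i => ((off Z W).equivFin.symm i).1.rep) fun i => (mem_off.1 ((off Z W).equivFin.symm i).2).2
  have h := residual hCB φ
  have e : (Z.filter fun z => φ z.rep ≠ 0) = off Z W := by
    ext w
    simp only [Finset.mem_filter, mem_off]
    refine and_congr_right fun hw => ⟨fun h h' => h (hφ0 _ h'), fun h => ?_⟩
    have := hφ1 ((off Z W).equivFin ⟨w, mem_off.2 ⟨hw, h⟩⟩)
    rwa [Equiv.symm_apply_apply] at this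
  rwa [e] at h

/-- at most `n` subspaces avoiding `z` cannot cover the other points -/
lemma not_covered {σ : Type} [Fintype σ] {Z : Finset (Projectivization k (σ → k))} {n : ℕ} (hCB : CB Z n)
    {z : Projectivization k (σ → k)} (hz : z ∈ Z) {ι : Type u} [Fintype ι] (hι : Fintype.card ι ≤ n)
    (W : ι → Submodule k (σ → k)) (hW : ∀ i, z.rep ∉ W i)
    (hcov : ∀ z' ∈ Z, z' ≠ z → ∃ i, z'.rep ∈ W i) : False := by
  classical
  have hex : ∀ i, ∃ φ : Dual k (σ → k), (∀ w ∈ W i, φ w = 0) ∧ φ z.rep ≠ 0 := fun i => by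
    obtain ⟨φ, h1, h2⟩ := exists_avoid (W i) (fun _ : Unit => z.rep) fun _ => hW i
    exact ⟨φ, h1, h2 ()⟩
  choose φ hφ0 hφ1 using hex
  obtain ⟨ψ, -, hψ⟩ := exists_avoid (⊥ : Submodule k (σ → k)) (fun _ : Unit => z.rep)
    fun _ h => z.rep_nonzero ((Submodule.mem_bot k).1 h)
  have hp : ((∏ i, formOf (φ i)) * formOf ψ ^ (n - Fintype.card ι)).IsHomogeneous n := by
    have h1 : (∏ i, formOf (φ i)).IsHomogeneous (Fintype.card ι) := by
      have := IsHomogeneous.prod Finset.univ (fun i => formOf (φ i)) (fun _ => 1)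
        fun i _ => isHomogeneous_formOf (φ i)
      simpa using this
    have h2 := h1.mul ((isHomogeneous_formOf ψ).pow (n - Fintype.card ι))
    rwa [one_mul, Nat.add_sub_cancel' hι] at h2
  have h0 := hCB z hz _ hp fun z' hz' hne => by
    obtain ⟨i, hi⟩ := hcov z' hz' hne
    rw [map_mul, map_prod, Finset.prod_eq_zero (Finset.mem_univ i) (by rw [eval_formOf]; exact hφ0 i _ hi),
      zero_mul]
  rw [map_mul, map_prod, map_pow] at h0
  simp only [eval_formOf] at h0
  exact mul_ne_zero (Finset.prod_ne_zero_iff.2 fun i _ => hφ1 i) (pow_ne_zero _ (hψ ())) h0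

omit [Infinite k] in
lemma finrank_sup_point {σ : Type} [Fintype σ] (W : Submodule k (σ → k)) (e : Projectivization k (σ → k)) :
    finrank k ↥(W ⊔ e.submodule) ≤ finrank k ↥W + 1 := by
  have h := Submodule.finrank_add_le_finrank_add_finrank W e.submodule
  rwa [e.finrank_submodule] at h

omit [Infinite k] in
lemma exists_plane {σ : Type} [Fintype σ] (hσ : 3 ≤ Fintype.card σ) (S : Submodule k (σ → k))
    (hS : finrank k ↥S ≤ 3) : ∃ W : Submodule k (σ → k), finrank k ↥W = 3 ∧ S ≤ W := by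
  obtain ⟨j, hj⟩ : ∃ j, finrank k ↥S + j = 3 := ⟨3 - finrank k ↥S, by omega⟩
  induction j generalizing S with
  | zero => exact ⟨S, by omega, le_rfl⟩
  | succ j ih =>
    have hlt : finrank k ↥S < finrank k (σ → k) := by rw [Module.finrank_pi]; omega
    obtain ⟨v, -, hv⟩ := SetLike.exists_of_lt (Submodule.lt_top_of_finrank_lt_finrank hlt)
    have hv0 : v ≠ 0 := fun h => hv (h ▸ S.zero_mem)
    have h1 : finrank k ↥(S ⊔ k ∙ v) = finrank k ↥S + 1 := by
      refine le_antisymm ((Submodule.finrank_add_le_finrank_add_finrank _ _).trans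
        (by rw [finrank_span_singleton hv0])) ?_
      exact Submodule.finrank_lt_finrank_of_lt (left_lt_sup.2 fun h => hv (h (Submodule.mem_span_singleton_self v)))
    obtain ⟨W, hW, hle⟩ := ih (S ⊔ k ∙ v) (by omega) (by omega)
    exact ⟨W, hW, le_sup_left.trans hle⟩

omit [Infinite k] in
lemma span_rep_le {σ : Type} {S : Finset (Projectivization k (σ → k))} {W : Submodule k (σ → k)}
    (h : ∀ z ∈ S, z.rep ∈ W) : Submodule.span k ((fun z => z.rep) '' (S : Set (Projectivization k (σ → k)))) ≤ W :=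
  Submodule.span_le.2 (by rintro _ ⟨z, hz, rfl⟩; exact h z hz)

/-- on two skew lines, each line carries at least `n + 2` points -/
lemma card_on_ge {σ : Type} [Fintype σ] {Z : Finset (Projectivization k (σ → k))} {n : ℕ} (hn : 1 ≤ n)
    (hCB : CB Z n) {L M : Submodule k (σ → k)} (hL : finrank k ↥L = 2) (hd : L ⊓ M = ⊥)
    (hcov : ∀ z ∈ Z, z.rep ∈ L ∨ z.rep ∈ M) (hne : (on Z L).Nonempty) : n + 2 ≤ (on Z L).card := by
  classical
  by_contra hlt
  obtain ⟨z, hz⟩ := hne
  obtain ⟨hzZ, hzL⟩ := mem_on.1 hz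
  have hzM : z.rep ∉ M := fun h => z.rep_nonzero ((Submodule.mem_bot k).1 (hd ▸ ⟨hzL, h⟩))
  have hin : ∀ z' ∈ on Z L, z' ≠ z → z.rep ∉ M ⊔ z'.submodule := by
    intro z' hz' hne' h
    obtain ⟨m, hm, a, ha, he⟩ := Submodule.mem_sup.1 h
    have haL : a ∈ L := (rep_mem_iff.1 (mem_on.1 hz').2) ha
    have hm0 : m = 0 := by
      have : m ∈ L ⊓ M := ⟨by rw [eq_sub_of_add_eq he]; exact L.sub_mem hzL haL, hm⟩
      rwa [hd, Submodule.mem_bot] at this
    exact rep_notMem_submodule hne'.symm (by rw [← he, hm0, zero_add]; exact ha)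
  have hc : (on Z L).card ≤ n + 1 := by omega
  rcases ((on Z L).erase z).eq_empty_or_nonempty with he | hne2
  · refine not_covered hCB hzZ (ι := PUnit.{u+1}) (by simpa using hn) (fun _ => M) (fun _ => hzM) fun z' hz' hne' => ?_
    rcases hcov z' hz' with h | h
    · exact absurd (he ▸ Finset.mem_erase.2 ⟨hne', mem_on.2 ⟨hz', h⟩⟩) (Finset.notMem_empty z')
    · exact ⟨PUnit.unit, h⟩
  · refine not_covered hCB hzZ (ι := ↥((on Z L).erase z)) ?_ (fun z' => M ⊔ z'.1.submodule)
      (fun z' => hin z'.1 (Finset.mem_of_mem_erase z'.2) (Finset.ne_of_mem_erase z'.2)) fun z' hz' hne' => ?_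
    · rw [Fintype.card_coe, Finset.card_erase_of_mem hz]; omega
    · rcases hcov z' hz' with h | h
      · exact ⟨⟨z', Finset.mem_erase.2 ⟨hne', mem_on.2 ⟨hz', h⟩⟩⟩,
          Submodule.mem_sup_right (rep_mem_iff.2 le_rfl)⟩
      · obtain ⟨w, hw⟩ := hne2
        exact ⟨⟨w, hw⟩, Submodule.mem_sup_left h⟩

/-- the conclusion: coplanar, or two skew lines with at least `n + 2` points each -/
def Concl (Z : Finset (Projectivization k (Fin 4 → k))) (n : ℕ) : Prop :=
  (∃ W : Submodule k (Fin 4 → k), finrank k ↥W = 3 ∧ ∀ z ∈ Z, z.rep ∈ W) ∨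
    ∃ L M : Submodule k (Fin 4 → k), finrank k ↥L = 2 ∧ finrank k ↥M = 2 ∧ L ⊓ M = ⊥ ∧
      (∀ z ∈ Z, z.rep ∈ L ∨ z.rep ∈ M) ∧ n + 2 ≤ (on Z L).card ∧ n + 2 ≤ (on Z M).card

omit [Infinite k] in
lemma plane_of_finrank_le {Z : Finset (Projectivization k (Fin 4 → k))} {n : ℕ} {S : Submodule k (Fin 4 → k)}
    (hS : finrank k ↥S ≤ 3) (h : ∀ z ∈ Z, z.rep ∈ S) : Concl Z n := by
  obtain ⟨W, hW, hle⟩ := exists_plane (by simp) S hS
  exact Or.inl ⟨W, hW, fun z hz => hle (h z hz)⟩

lemma concl_of_line {Z : Finset (Projectivization k (Fin 4 → k))} {m : ℕ} (hm : 1 ≤ m) (hCB : CB Z (m + 1))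
    (hcard : Z.card ≤ 3 * (m + 1) + 1) {L : Submodule k (Fin 4 → k)} (hL : finrank k ↥L = 2)
    (hLc : m + 2 ≤ (on Z L).card) : Concl Z (m + 1) := by
  classical
  by_contra hno
  -- a point off the line
  obtain ⟨e₀, he₀, he₀L⟩ : ∃ e ∈ Z, e.rep ∉ L := by
    by_contra hc
    push Not at hc
    exact hno (plane_of_finrank_le (by omega) hc)
  have hP : finrank k ↥(L ⊔ e₀.submodule) ≤ 3 := (finrank_sup_point L e₀).trans (by omega)
  have hne : (off Z (L ⊔ e₀.submodule)).Nonempty := by
    by_contra hc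
    rw [Finset.not_nonempty_iff_eq_empty] at hc
    refine hno (plane_of_finrank_le hP fun z hz => ?_)
    by_contra hz'
    exact Finset.notMem_empty z (hc ▸ mem_off.2 ⟨hz, hz'⟩)
  have hsub : off Z (L ⊔ e₀.submodule) ⊆ (off Z L).erase e₀ := fun w hw => by
    obtain ⟨h1, h2⟩ := mem_off.1 hw
    refine Finset.mem_erase.2 ⟨?_, mem_off.2 ⟨h1, fun h => h2 (Submodule.mem_sup_left h)⟩⟩
    rintro rfl
    exact h2 (Submodule.mem_sup_right (rep_mem_iff.2 le_rfl))
  have hoffc := card_on_off Z L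
  have hcP : (off Z (L ⊔ e₀.submodule)).card ≤ 2 * m + 1 := by
    have := Finset.card_le_card hsub
    rw [Finset.card_erase_of_mem (mem_off.2 ⟨he₀, he₀L⟩)] at this
    omega
  obtain ⟨M, hM, hsubM⟩ := collinear hm (residual_off hCB _) hne hcP
  have hMc : m + 2 ≤ (off Z (L ⊔ e₀.submodule)).card := card_ge (residual_off hCB _) hne
  -- nothing outside the two lines
  have hcov : ∀ z ∈ Z, z.rep ∈ L ∨ z.rep ∈ M := by
    intro z hz
    by_contra hc
    push Not at hc
    let E := (off (off Z L) M).erase z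
    have hEz : z ∈ off (off Z L) M := mem_off.2 ⟨mem_off.2 ⟨hz, hc.1⟩, hc.2⟩
    have hdisj : off Z (L ⊔ e₀.submodule) ⊆ on (off Z L) M := fun w hw =>
      mem_on.2 ⟨mem_off.2 ⟨(mem_off.1 hw).1, fun h => (mem_off.1 hw).2 (Submodule.mem_sup_left h)⟩,
        rep_mem_iff.2 (hsubM w hw)⟩
    have hEc : E.card + 2 ≤ m + 1 := by
      have h1 := card_on_off (off Z L) M
      have h2 := Finset.card_le_card hdisj
      have h3 : E.card + 1 = (off (off Z L) M).card := Finset.card_erase_add_one hEz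
      omega
    refine not_covered hCB hz (ι := ULift.{u} Bool ⊕ ↥E) ?_
      (Sum.elim (fun b => if b.down then L else M) fun e => e.1.submodule) ?_ fun z' hz' hne' => ?_
    · simp only [Fintype.card_sum, Fintype.card_ulift, Fintype.card_bool, Fintype.card_coe]; omega
    · rintro (⟨(_ | _)⟩ | e)
      · simpa using hc.2
      · simpa using hc.1
      · exact rep_notMem_submodule (Finset.ne_of_mem_erase e.2).symm
    · by_cases h1 : z'.rep ∈ L
      · exact ⟨Sum.inl ⟨true⟩, h1⟩
      by_cases h2 : z'.rep ∈ M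
      · exact ⟨Sum.inl ⟨false⟩, h2⟩
      exact ⟨Sum.inr ⟨z', Finset.mem_erase.2 ⟨hne', mem_off.2 ⟨mem_off.2 ⟨hz', h1⟩, h2⟩⟩⟩,
        rep_mem_iff.2 le_rfl⟩
  have hd : L ⊓ M = ⊥ := by
    by_contra hc
    have h1 := Submodule.finrank_sup_add_finrank_inf_eq L M
    have h2 : 1 ≤ finrank k ↥(L ⊓ M) := Submodule.one_le_finrank_iff.2 hc
    exact hno (plane_of_finrank_le (by omega : finrank k ↥(L ⊔ M) ≤ 3) fun z hz =>
      (hcov z hz).elim Submodule.mem_sup_left Submodule.mem_sup_right)
  have hLne : (on Z L).Nonempty := Finset.card_pos.1 (by omega)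
  obtain ⟨w, hw⟩ := hne
  refine hno (Or.inr ⟨L, M, hL, hM, hd, hcov, card_on_ge (by omega) hCB hL hd hcov hLne,
    card_on_ge (by omega) hCB hM (inf_comm L M ▸ hd) (fun z hz => (hcov z hz).symm)
      ⟨w, mem_on.2 ⟨(mem_off.1 hw).1, rep_mem_iff.2 (hsubM w hw)⟩⟩⟩)

theorem coplanar_or_twoLines {n : ℕ} {Z : Finset (Projectivization k (Fin 4 → k))} (hn : 1 ≤ n)
    (hCB : CB Z n) (hcard : Z.card ≤ 3 * n + 1) : Concl Z n := by
  classical
  induction n using Nat.strong_induction_on generalizing Z with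
  | _ n ih =>
  obtain ⟨m, rfl⟩ : ∃ m, n = m + 1 := ⟨n - 1, by omega⟩
  by_contra hno
  let sp := fun S : Finset (Projectivization k (Fin 4 → k)) =>
    Submodule.span k ((fun z => z.rep) '' (S : Set (Projectivization k (Fin 4 → k))))
  have hsp : ∀ S : Finset (Projectivization k (Fin 4 → k)), ∀ z ∈ S, z.rep ∈ sp S := fun S z hz =>
    Submodule.subset_span ⟨z, hz, rfl⟩
  have hsp3 : ∀ S : Finset (Projectivization k (Fin 4 → k)), S.card ≤ 3 → finrank k ↥(sp S) ≤ 3 := fun S hS => by
    have h := finrank_span_finset_le_card (R := k) (S.image fun z => z.rep)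
    unfold Set.finrank at h
    rw [Finset.coe_image] at h
    exact h.trans (Finset.card_image_le.trans hS)
  have hbig : 4 ≤ Z.card := by
    by_contra hc
    exact hno (plane_of_finrank_le (hsp3 Z (by omega)) (hsp Z))
  obtain ⟨A, hA, hA3⟩ := Finset.exists_subset_card_eq (s := Z) (n := 3) (by omega)
  rcases Nat.eq_zero_or_pos m with rfl | hm
  · -- four independent points
    obtain ⟨z, hz, hzA⟩ : ∃ z ∈ Z, z.rep ∉ sp A := by
      by_contra hc
      push Not at hc
      exact hno (plane_of_finrank_le (hsp3 A (by omega)) hc)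
    refine not_covered hCB hz (ι := PUnit.{u+1}) (by simp) (fun _ => sp A) (fun _ => hzA) fun z' hz' hne => ?_
    refine ⟨PUnit.unit, hsp A z' ?_⟩
    by_contra hz'A
    have hzA' : z ∉ A := fun h => hzA (hsp A z h)
    have : (insert z (insert z' A)).card ≤ Z.card := Finset.card_le_card (by
      intro w hw
      simp only [Finset.mem_insert] at hw
      rcases hw with rfl | rfl | hw
      · exact hz
      · exact hz'
      · exact hA hw)
    rw [Finset.card_insert_of_notMem (by simp [hne.symm, hzA']), Finset.card_insert_of_notMem hz'A] at this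
    omega
  -- a plane with most points
  obtain ⟨S, hS, hmax⟩ := (Z.powerset.filter fun S => finrank k ↥(sp S) ≤ 3).exists_max_image
    Finset.card ⟨A, Finset.mem_filter.2 ⟨Finset.mem_powerset.2 hA, hsp3 A (by omega)⟩⟩
  simp only [Finset.mem_filter, Finset.mem_powerset] at hS hmax
  have hmax' : ∀ W : Submodule k (Fin 4 → k), finrank k ↥W ≤ 3 → (on Z W).card ≤ S.card := fun W hW =>
    hmax _ ⟨fun w hw => (mem_on.1 hw).1,
      (Submodule.finrank_mono (span_rep_le fun w hw => (mem_on.1 hw).2)).trans hW⟩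
  have h3 : 3 ≤ S.card := hA3 ▸ hmax A ⟨hA, hsp3 A (by omega)⟩
  obtain ⟨H, hH, hSH⟩ := exists_plane (k := k) (by simp) (sp S) hS.2
  have hon : S.card ≤ (on Z H).card :=
    Finset.card_le_card fun w hw => mem_on.2 ⟨hS.1 hw, hSH (hsp S w hw)⟩
  have hne : (off Z H).Nonempty := by
    by_contra hc
    rw [Finset.not_nonempty_iff_eq_empty] at hc
    refine hno (Or.inl ⟨H, hH, fun z hz => ?_⟩)
    by_contra hz'
    exact Finset.notMem_empty z (hc ▸ mem_off.2 ⟨hz, hz'⟩)
  have hge := card_ge (residual_off hCB H) hne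
  have hsum := card_on_off Z H
  by_cases hr : (off Z H).card ≤ 2 * m + 1
  · obtain ⟨L, hL, hsubL⟩ := collinear hm (residual_off hCB H) hne hr
    refine hno (concl_of_line hm hCB hcard hL (le_trans hge (Finset.card_le_card fun w hw => ?_)))
    exact mem_on.2 ⟨(mem_off.1 hw).1, rep_mem_iff.2 (hsubL w hw)⟩
  rcases ih m (by omega) hm (residual_off hCB H) (by omega) with ⟨W, hW, hWsub⟩ | ⟨L, M, hL, hM, hd, hcov, h1, h2⟩
  · have h4 : (off Z H).card ≤ (on Z W).card :=
      Finset.card_le_card fun w hw => mem_on.2 ⟨(mem_off.1 hw).1, hWsub w hw⟩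
    have h5 := hmax' W hW.le
    omega
  · obtain ⟨e, he⟩ : (on (off Z H) M).Nonempty := Finset.card_pos.1 (by omega)
    obtain ⟨heH, heM⟩ := mem_on.1 he
    have heL : e.rep ∉ L := fun h => e.rep_nonzero ((Submodule.mem_bot k).1 (hd ▸ ⟨h, heM⟩))
    have h5 := hmax' (L ⊔ e.submodule) ((finrank_sup_point L e).trans (by omega))
    have h6 : (insert e (on (off Z H) L)).card ≤ (on Z (L ⊔ e.submodule)).card :=
      Finset.card_le_card fun w hw => by
        rcases Finset.mem_insert.1 hw with rfl | hw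
        · exact mem_on.2 ⟨(mem_off.1 heH).1, Submodule.mem_sup_right (rep_mem_iff.2 le_rfl)⟩
        · exact mem_on.2 ⟨(mem_off.1 (mem_on.1 hw).1).1, Submodule.mem_sup_left (mem_on.1 hw).2⟩
    rw [Finset.card_insert_of_notMem fun h => heL (mem_on.1 h).2] at h6
    omega

end Groth.Agent.CBPts
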